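import Groth.Agent.Lib.SmWeil.TorusCentralizer
import Groth.Agent.Lib.SmWeil.CartanTorus
import Groth.Agent.Lib.SmWeil.CartanAux
import Groth.Agent.Lib.SmWeil.CartanInto
import Groth.Agent.Lib.SmWeil.CartanSub
import Groth.Agent.Lib.SmWeil.TorusConjEtale
import Groth.Prelude.Def_SGA3x
import Groth.Agent.H1.Classical.FieldDescent

/-!
# The normalizer of a smooth subgroup containing Cartan subgroups of the fibres
-/

set_option autoImplicit false
set_option linter.style.haveILetI false
set_option linter.unusedSectionVars false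
set_option backward.isDefEq.respectTransparency false
set_option synthInstance.maxHeartbeats 200000
set_option maxHeartbeats 1000000

universe u

open CategoryTheory CategoryTheory.Limits AlgebraicGeometry MonoidalCategory CartesianMonoidalCategory
open CategoryTheory.MonObj CategoryTheory.GrpObj
open Groth.Agent.Lib Groth.Agent.H87 Groth.Agent.H87.HomDS
open Groth.Agent.Lib.RedPts

namespace Groth.Agent.H13.NormCartan

theorem conj_one {M : Type*} [Group M] (a : M) : (1 : M) * a * (1 : M)⁻¹ = a := by group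

open Groth.Agent.Lib.SmWeil

section Exists

variable {S : Scheme.{u}} {G H : Over S} [GrpObj G] [GrpObj H]

/-- Membership in the normalizer. -/
def Norm (i : H ⟶ G) {X : Over S} (g : X ⟶ G) : Prop :=
  ∀ (X' : Over S) (x : X' ⟶ X) (h : X' ⟶ H),
    (∃ h' : X' ⟶ H, (x ≫ g) * (h ≫ i) * (x ≫ g)⁻¹ = h' ≫ i) ∧
    (∃ h' : X' ⟶ H, (x ≫ g)⁻¹ * (h ≫ i) * (x ≫ g) = h' ≫ i)

theorem Norm.mul {i : H ⟶ G} {X : Over S} {g g' : X ⟶ G} (hg : Norm i g) (hg' : Norm i g') :
    Norm i (g * g') := fun X' x h => by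
  constructor
  · obtain ⟨a, ha⟩ := (hg' X' x h).1
    obtain ⟨b, hb⟩ := (hg X' x a).1
    refine ⟨b, ?_⟩
    rw [← hb, ← ha, MonObj.comp_mul]
    group
  · obtain ⟨a, ha⟩ := (hg X' x h).2
    obtain ⟨b, hb⟩ := (hg' X' x a).2
    refine ⟨b, ?_⟩
    rw [← hb, ← ha, MonObj.comp_mul]
    group

theorem Norm.inv {i : H ⟶ G} {X : Over S} {g : X ⟶ G} (hg : Norm i g) : Norm i g⁻¹ := fun X' x h => by
  simp only [GrpObj.comp_inv, _root_.inv_inv]
  exact ⟨(hg X' x h).2, (hg X' x h).1⟩

theorem Norm.one {i : H ⟶ G} {X : Over S} : Norm i (1 : X ⟶ G) := fun X' x h => by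
  simp only [MonObj.comp_one, inv_one, _root_.one_mul, _root_.mul_one]
  exact ⟨⟨h, rfl⟩, ⟨h, rfl⟩⟩

theorem norm_of_self (i : H ⟶ G) [IsMonHom i] {X : Over S} (a : X ⟶ H) : Norm i (a ≫ i) := fun X' x h => by
  constructor
  · exact ⟨(x ≫ a) * h * (x ≫ a)⁻¹, by rw [MonObj.mul_comp, MonObj.mul_comp, GrpObj.inv_comp, Category.assoc]⟩
  · exact ⟨(x ≫ a)⁻¹ * h * (x ≫ a), by rw [MonObj.mul_comp, MonObj.mul_comp, GrpObj.inv_comp, Category.assoc]⟩

/-- The normalizer as a closed subgroup scheme. -/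
theorem exists_normalizer [Smooth G.hom] [QuasiCompact G.hom] [IsSeparated G.hom] [Smooth H.hom] (i : H ⟶ G)
    [IsMonHom i] [Mono i] (hHconn : ∀ s : S, ConnectedSpace ↥(Red.geomFibre s H).left) :
    ∃ (N : Over S) (_ : GrpObj N) (n : N ⟶ G) (f : H ⟶ N), Red.IsNormalizerOf i n ∧ IsClosedImmersion n.left ∧
      QuasiCompact N.hom ∧ LocallyOfFinitePresentation N.hom ∧ f ≫ n = i := by
  haveI : Mono i.left := inferInstanceAs (Mono ((Over.forget S).map i))
  haveI : IsSeparated H.hom := by rw [← Over.w i]; infer_instance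
  haveI : GeometricallyConnected H.hom := geometricallyConnected_grp H fun s => by
    let k := S.residueField s
    let ψ : Spec (CommRingCat.of (AlgebraicClosure k)) ⟶ Spec k :=
      Spec.map (CommRingCat.ofHom (algebraMap k (AlgebraicClosure k)))
    haveI : Surjective ψ := ⟨fun x => ⟨IsLocalRing.closedPoint _,
      @Subsingleton.elim _ (inferInstanceAs (Subsingleton (PrimeSpectrum k))) _ _⟩⟩
    let q : pullback H.hom (Red.geomPt s) ⟶ pullback H.hom (S.fromSpecResidueField s) :=
      pullback.lift (pullback.fst _ _) (pullback.snd _ _ ≫ ψ) (by rw [Category.assoc, pullback.condition])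
    have sq : IsPullback q (pullback.snd H.hom (Red.geomPt s)) (pullback.snd H.hom (S.fromSpecResidueField s)) ψ := by
      refine IsPullback.of_right ?_ (pullback.lift_snd _ _ _) (IsPullback.of_hasPullback H.hom (S.fromSpecResidueField s))
      rw [pullback.lift_fst]
      exact IsPullback.of_hasPullback H.hom (Red.geomPt s)
    haveI : Surjective q := MorphismProperty.of_isPullback sq.flip inferInstance
    haveI : ConnectedSpace ↥(pullback H.hom (Red.geomPt s)) := hHconn s
    exact q.surjective.connectedSpace q.continuous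
  haveI := lfp_left i
  obtain ⟨C, c, hc, hcfp, hC⟩ := exists_transporter_mono i i
  haveI : Mono c := GrpQ.mono_of_left c
  obtain ⟨N, y, -, hyfp, hyc, hy⟩ := exists_preimage_mono c⁻¹ c
  haveI := hyc hc
  haveI := hyfp hcfp
  let n : N ⟶ G := y ≫ c
  haveI hclosed : IsClosedImmersion n.left := inferInstanceAs (IsClosedImmersion (y.left ≫ c.left))
  haveI hfp : LocallyOfFinitePresentation n.left :=
    inferInstanceAs (LocallyOfFinitePresentation (y.left ≫ c.left))
  haveI : Mono n := GrpQ.mono_of_left n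
  have hN : ∀ {X : Over S} (g : X ⟶ G), (∃ z, z ≫ n = g) ↔ Norm i g := by
    intro X g
    have h2 := hC g⁻¹
    simp only [GrpObj.comp_inv, _root_.inv_inv] at h2
    constructor
    · rintro ⟨z, rfl⟩ X' x h
      refine ⟨(hC _).1 ⟨z ≫ y, Category.assoc _ _ _⟩ X' x h, h2.1 ?_ X' x h⟩
      obtain ⟨κ, hκ⟩ := (hy (z ≫ y)).1 ⟨z, rfl⟩
      refine ⟨κ, ?_⟩
      rw [hκ, GrpObj.comp_inv]
      simp only [n, Category.assoc]
    · intro hg
      obtain ⟨w, hw⟩ := (hC g).2 fun X' x h => (hg X' x h).1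
      obtain ⟨κ, hκ⟩ := h2.2 fun X' x h => (hg X' x h).2
      obtain ⟨z, hz⟩ := (hy w).2 ⟨κ, by rw [GrpObj.comp_inv, hw, hκ]⟩
      exact ⟨z, by simp only [n, reassoc_of% hz, hw]⟩
  obtain ⟨hG, hnG⟩ := FreeRes.exists_grpObj_of_mono n (fun _ => (hN 1).2 Norm.one)
    (fun {T} a b => (hN _).2 (((hN _).1 ⟨a, rfl⟩).mul ((hN _).1 ⟨b, rfl⟩)))
    (fun {T} a => (hN _).2 ((hN _).1 ⟨a, rfl⟩).inv)
  obtain ⟨f, hf⟩ := (hN i).2 (by simpa using norm_of_self i (𝟙 H))
  exact ⟨N, hG, n, f, ⟨hnG, inferInstance, fun _ g => hN g⟩, hclosed,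
    by rw [← Over.w n]; infer_instance, by rw [← Over.w n]; infer_instance, hf⟩

end Exists

section Field

variable {K : Type u} [Field K] [IsAlgClosed K] {G H N : Over (Spec (CommRingCat.of K))} [GrpObj G] [GrpObj H]

/-- Over an algebraically closed field the subgroup is open in its normalizer. -/
theorem smooth_left [Smooth G.hom] [Smooth H.hom] [LocallyOfFiniteType N.hom] (i : H ⟶ G) [IsMonHom i] [Mono i]
    (hH : ∃ (C₀ : Over (Spec (CommRingCat.of K))) (_ : GrpObj C₀) (c₀ : C₀ ⟶ H), SGA3x.IsCartanOver K (c₀ ≫ i))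
    (n : N ⟶ G) [Mono n] (hn : ∀ (X : Over (Spec (CommRingCat.of K))) (z : X ⟶ N), Norm i (z ≫ n))
    (f : H ⟶ N) (hf : f ≫ n = i) : Smooth f.left := by
  obtain ⟨C₀, _, c₀, hcm, hcmono, T, _, u, hu, hcu⟩ := hH
  haveI := hcm
  haveI := hu.1
  haveI := hu.2.1
  obtain ⟨a₀, ha₀⟩ := (hcu.2.2 T u).2 fun X' x h => by
    rw [← MonObj.mul_comp, ← MonObj.mul_comp, Lib.Tori.Comm.mul_comm_of_isTorus hu.2.2.1]
  let a : T ⟶ H := a₀ ≫ c₀
  have ha : a ≫ i = u := by simp only [a, Category.assoc, ha₀]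
  haveI := lfp_left f
  refine GrpSch.smooth_of_liftings f.left fun A J hJ t c₁ hc₁ => ?_
  let t' : Spec A ⟶ Spec (CommRingCat.of K) := t ≫ N.hom
  obtain ⟨l, hl, hl'⟩ := SmoothLift.Formal.isFormallySmoothHom_of_smooth H.hom A J hJ c₁ t' (by
    rw [← Over.w f, reassoc_of% hc₁])
  let P : Over (Spec (CommRingCat.of K)) := Over.mk t'
  let pn : P ⟶ N := Over.homMk t rfl
  let h : P ⟶ H := Over.homMk l hl'
  let g : P ⟶ G := (h ≫ i)⁻¹ * (pn ≫ n)
  have hg : Norm i g := (norm_of_self i h).inv.mul (hn P pn)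
  let P₀ : Over (Spec (CommRingCat.of K)) := Over.mk (Spec.map (MultAvg.mkA J) ≫ t')
  let r : P₀ ⟶ P := Over.homMk (Spec.map (MultAvg.mkA J)) rfl
  have hr : r ≫ g = 1 := by
    have e : r ≫ pn = r ≫ h ≫ f := by
      apply Over.OverMorphism.ext
      show Spec.map (MultAvg.mkA J) ≫ t = Spec.map (MultAvg.mkA J) ≫ l ≫ f.left
      rw [reassoc_of% hl]
      exact hc₁.symm
    simp only [g, MonObj.comp_mul, GrpObj.comp_inv]
    rw [← Category.assoc r pn n, e]
    simp only [Category.assoc, hf, inv_mul_cancel]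
  -- move to the base `Spec A`
  let aA : Red.bc t' T ⟶ Red.bc t' H := (Over.pullback t').map a
  let uA : Red.bc t' T ⟶ Red.bc t' G := (Over.pullback t').map u
  let iA : Red.bc t' H ⟶ Red.bc t' G := (Over.pullback t').map i
  let gA : 𝟙_ (Over (Spec A)) ⟶ Red.bc t' G := ptUp t' g
  haveI : Mono iA := inferInstance
  haveI : IsMonHom aA := by
    haveI : IsMonHom (a ≫ i) := by rw [ha]; infer_instance
    haveI : IsMonHom a := MaxTorusBC.isMonHom_of_mono_comp a i
    infer_instance
  haveI := CartanTorus.isMonHom_conjIso gA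
  obtain ⟨b, hb⟩ := (hg _ ((Over.map t').map (toUnit (Red.bc t' T)) ≫ (unitIso t').hom)
    (BC.down t' aA)).1
  let bA : Red.bc t' T ⟶ Red.bc t' H := BC.up t' b
  have hbA : bA ≫ iA = uA ≫ (CartanTorus.conjIso gA).hom := by
    refine BC.down_injective ?_
    rw [CartanTorus.comp_conjIso, BC.down_map, BC.down_up, BC.down_mul, BC.down_mul, BC.down_inv,
      down_toUnit_ptUp, ← hb]
    simp only [uA, aA, ← ha, Functor.map_comp, BC.down_map, Category.assoc]
  haveI : IsMonHom (bA ≫ iA) := by rw [hbA]; infer_instance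
  haveI : IsMonHom bA := MaxTorusBC.isMonHom_of_mono_comp bA iA
  have hrel₀ : MultAvg.Rel aA bA (1 : test (𝟙 (Spec A)) (MultAvg.mkA J) ⟶ Red.bc t' H) := fun Y p x => by
    rw [MonObj.comp_one, conj_one, ← cancel_mono iA]
    have hg1 : toUnit Y ≫ gA = 1 := by
      refine BC.down_injective ?_
      rw [down_toUnit_ptUp, BC.down_one]
      let q : (Over.map t').obj Y ⟶ P₀ := Over.homMk p.left (by
        have := Over.w p
        simp [P₀] at this ⊢
        rw [reassoc_of% this])
      have e : (Over.map t').map (toUnit Y) ≫ (unitIso t').hom = q ≫ r := by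
        apply Over.OverMorphism.ext
        have := Over.w p
        simp [q, r, unitIso] at this ⊢
        exact this.symm
      rw [← Category.assoc, e, Category.assoc, hr, MonObj.comp_one]
    rw [Category.assoc, Category.assoc, hbA, ← Category.assoc x uA, CartanTorus.comp_conjIso, hg1, conj_one]
    simp only [aA, iA, uA, ← ha, Functor.map_comp]
  haveI : Smooth (Red.bc t' H).hom := MorphismProperty.pullback_snd (P := @Smooth) _ _ inferInstance
  obtain ⟨hh, -, hrel⟩ := MultAvg.exists_rel_lift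
    (locSplit_of_isTorus (Tori.Basic.isTorus_bc hu.2.2.1 t')) aA bA (𝟙 (Spec A)) J ⟨2, hJ⟩ 1 hrel₀
  let ν : 𝟙_ (Over (Spec A)) ⟶ test (𝟙 (Spec A)) (𝟙 A) := Over.homMk (𝟙 _) (by simp)
  let h₁ : 𝟙_ (Over (Spec A)) ⟶ Red.bc t' H := ν ≫ hh
  let cA : 𝟙_ (Over (Spec A)) ⟶ Red.bc t' G := (h₁ ≫ iA)⁻¹ * gA
  have hcA : ∀ (Y : Over (Spec A)) (x : Y ⟶ 𝟙_ (Over (Spec A))) (τ : Y ⟶ Red.bc t' T),
      (x ≫ cA) * (τ ≫ uA) = (τ ≫ uA) * (x ≫ cA) := fun Y x τ => by
    obtain rfl := toUnit_unique x (toUnit Y)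
    have h1 := congrArg (· ≫ iA) (hrel Y (toUnit Y ≫ ν) τ)
    simp only [MonObj.mul_comp, GrpObj.inv_comp, Category.assoc, hbA] at h1
    rw [← Category.assoc τ uA, CartanTorus.comp_conjIso,
      show τ ≫ aA ≫ iA = τ ≫ uA by simp only [aA, iA, uA, ← ha, Functor.map_comp]] at h1
    simp only [cA, h₁, MonObj.comp_mul, GrpObj.comp_inv, Category.assoc]
    generalize toUnit Y ≫ ν ≫ hh ≫ iA = e₁ at h1 ⊢
    generalize toUnit Y ≫ gA = e₂ at h1 ⊢
    generalize τ ≫ uA = e₃ at h1 ⊢
    calc e₁⁻¹ * e₂ * e₃ = e₁⁻¹ * (e₂ * e₃ * e₂⁻¹) * e₂ := by group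
      _ = e₃ * (e₁⁻¹ * e₂) := by rw [← h1]; group
  obtain ⟨z, hz⟩ := ((H1.Classical.FieldDescent.isCentralizerOf_bc t' hcu).2.2 _ cA).2 hcA
  let wA : 𝟙_ (Over (Spec A)) ⟶ Red.bc t' H := h₁ * (z ≫ (Over.pullback t').map c₀)
  have hwA : wA ≫ iA = gA := by
    simp only [wA, iA, MonObj.mul_comp, Category.assoc, ← Functor.map_comp]
    rw [hz]
    simp only [cA, iA]
    group
  let w : P ⟶ H := h * ((unitIso t').inv ≫ BC.down t' wA)
  have hw : w ≫ i = pn ≫ n := by
    have e : ((unitIso t').inv ≫ BC.down t' wA) ≫ i = g := by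
      rw [Category.assoc, ← BC.down_map, hwA]
      simp only [gA, ptUp, BC.down_up, Iso.inv_hom_id_assoc]
    rw [MonObj.mul_comp, e]
    simp only [g]
    group
  have hwf : w ≫ f = pn := by rw [← cancel_mono n, Category.assoc, hf, hw]
  refine ⟨w.left, congrArg CommaMorphism.left hwf, ?_⟩
  haveI : Mono f := mono_of_mono_fac hf
  haveI : Mono f.left := inferInstanceAs (Mono ((Over.forget _).map f))
  rw [← cancel_mono f.left, Category.assoc, ← Over.comp_left, hwf]
  exact hc₁.symm

end Field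

variable {S : Scheme.{u}}

/-- Open immersions are detected on geometric fibres. -/
theorem isOpenImmersion_of_geom_fibres {X Y : Over S} [Flat X.hom] [LocallyOfFinitePresentation X.hom]
    [LocallyOfFiniteType Y.hom] (f : X ⟶ Y) [Mono f]
    (h : ∀ s : S, IsOpenImmersion ((Over.pullback (Red.geomPt s)).map f).left) : IsOpenImmersion f.left := by
  haveI : Mono f.left := inferInstanceAs (Mono ((Over.forget S).map f))
  haveI := Flat55.FibreTransfer.locallyOfFinitePresentation f.left Y.hom (Over.w f)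
  haveI : Flat f.left := Flat55.FibreTransfer.flat f.left Y.hom (Over.w f) fun s => by
    let r : Spec (CommRingCat.of (AlgebraicClosure (S.residueField s))) ⟶ Spec (S.residueField s) :=
      Spec.map (CommRingCat.ofHom (algebraMap (S.residueField s) (AlgebraicClosure (S.residueField s))))
    haveI : Flat r := Groth.Agent.Lib.GrpSch.flat_of_isField (Field.toIsField _) _
    haveI : Surjective r := ⟨fun x => ⟨IsLocalRing.closedPoint _, Subsingleton.elim (α := PrimeSpectrum _) _ _⟩⟩
    have h1 : Charts.Fib @IsOpenImmersion (r ≫ S.fromSpecResidueField s) f := h s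
    have h2 : IsOpenImmersion ((Over.pullback (S.fromSpecResidueField s)).map f).left :=
      Charts.fib_descend _ r h1
    have sq := (Charts.isPullback_map (S.fromSpecResidueField s) f).flip
    have e := sq.flip.isoPullback_hom_snd
    haveI : IsOpenImmersion (sq.flip.isoPullback.hom ≫ pullback.snd f.left (pullback.fst Y.hom (S.fromSpecResidueField s))) := by
      rw [e]; exact h2
    haveI : IsOpenImmersion (pullback.snd f.left (pullback.fst Y.hom (S.fromSpecResidueField s))) :=
      (MorphismProperty.cancel_left_of_respectsIso @IsOpenImmersion sq.flip.isoPullback.hom _).1 inferInstance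
    exact (inferInstance : Flat (pullback.snd f.left (pullback.fst Y.hom (S.fromSpecResidueField s))))
  exact IsOpenImmersion.of_flat_of_mono _

/-- The subgroup is open in its normalizer. -/
theorem isOpenImmersion_left {G H N : Over S} [GrpObj G] [GrpObj H] [GrpObj N] [Smooth G.hom] [Smooth H.hom]
    [LocallyOfFiniteType N.hom] (i : H ⟶ G) [IsMonHom i] [Mono i] (n : N ⟶ G) (hn : Red.IsNormalizerOf i n)
    (hHC : ∀ s : S, ∃ (C' : Over (Spec (CommRingCat.of (AlgebraicClosure (S.residueField s))))) (_ : GrpObj C')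
      (c' : C' ⟶ Red.geomFibre s H), SGA3x.IsCartanOver _ (c' ≫ (Over.pullback (Red.geomPt s)).map i))
    (f : H ⟶ N) (hf : f ≫ n = i) : IsOpenImmersion f.left := by
  haveI := hn.2.1
  haveI : Mono f := mono_of_mono_fac hf
  refine isOpenImmersion_of_geom_fibres f fun s => ?_
  let b := Red.geomPt s
  haveI : Smooth (Red.bc b G).hom := MorphismProperty.pullback_snd (P := @Smooth) _ _ inferInstance
  haveI : Smooth (Red.bc b H).hom := MorphismProperty.pullback_snd (P := @Smooth) _ _ inferInstance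
  haveI : LocallyOfFiniteType (Red.bc b N).hom :=
    MorphismProperty.pullback_snd (P := @LocallyOfFiniteType) _ _ inferInstance
  have hfb : (Over.pullback b).map f ≫ (Over.pullback b).map n = (Over.pullback b).map i := by
    rw [← Functor.map_comp, hf]
  haveI := smooth_left ((Over.pullback b).map i) (hHC s) ((Over.pullback b).map n) (fun X z X' x h => by
    have key := ((hn.2.2 _ (BC.down b z ≫ n)).1 ⟨_, rfl⟩) _ ((Over.map b).map x) (BC.down b h)
    have e1 : BC.down b (x ≫ z ≫ (Over.pullback b).map n) = (Over.map b).map x ≫ BC.down b z ≫ n := by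
      rw [BC.down_comp, BC.down_map]
    have e2 : BC.down b (h ≫ (Over.pullback b).map i) = BC.down b h ≫ i := BC.down_map h i
    constructor
    · obtain ⟨h', hh⟩ := key.1
      refine ⟨BC.up b h', BC.down_injective ?_⟩
      rw [BC.down_mul, BC.down_mul, BC.down_inv, e1, e2, BC.down_map, BC.down_up]
      exact hh
    · obtain ⟨h', hh⟩ := key.2
      refine ⟨BC.up b h', BC.down_injective ?_⟩
      rw [BC.down_mul, BC.down_mul, BC.down_inv, e1, e2, BC.down_map, BC.down_up]
      exact hh) _ hfb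
  haveI : Mono ((Over.pullback b).map f).left :=
    inferInstanceAs (Mono ((Over.forget _).map ((Over.pullback b).map f)))
  exact IsOpenImmersion.of_flat_of_mono _

/-- A central subgroup lies in the subgroup. -/
theorem exists_fac_central {G H N Z : Over S} [GrpObj G] [GrpObj H] [GrpObj N] [GrpObj Z] (i : H ⟶ G) (n : N ⟶ G)
    (hn : Red.IsNormalizerOf i n)
    (hHC : ∀ s : S, ∃ (C' : Over (Spec (CommRingCat.of (AlgebraicClosure (S.residueField s))))) (_ : GrpObj C')
      (c' : C' ⟶ Red.geomFibre s H), SGA3x.IsCartanOver _ (c' ≫ (Over.pullback (Red.geomPt s)).map i))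
    (f : H ⟶ N) [IsOpenImmersion f.left] (hf : f ≫ n = i) (z : Z ⟶ G)
    (hc : ∀ (X : Over S) (x : X ⟶ Z) (g : X ⟶ G), (x ≫ z) * g = g * (x ≫ z)) :
    ∃ φ : Z ⟶ H, φ ≫ i = z := by
  haveI := hn.2.1
  obtain ⟨z', hz'⟩ := (hn.2.2 Z z).2 fun X' x h => by
    constructor
    · exact ⟨h, by rw [hc X' x, mul_inv_cancel_right]⟩
    · exact ⟨h, by rw [_root_.mul_assoc, ← hc X' x, inv_mul_cancel_left]⟩
  suffices hrange : Set.range z'.left.base ⊆ Set.range f.left.base by
    refine ⟨Over.homMk (IsOpenImmersion.lift f.left z'.left hrange) ?_, ?_⟩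
    · rw [← Over.w f, IsOpenImmersion.lift_fac_assoc, Over.w z']
    · rw [← hz', ← hf, ← Category.assoc]
      congr 1
      exact Over.OverMorphism.ext (IsOpenImmersion.lift_fac _ _ _)
  rintro _ ⟨x, rfl⟩
  let s : S := Z.hom x
  let b := Red.geomPt s
  obtain ⟨C', _, c', -, -, T, _, u, -, hcu⟩ := hHC s
  obtain ⟨w, hw⟩ := (hcu.2.2 _ ((Over.pullback b).map z)).2 fun X' a h => by
    refine BC.down_injective ?_
    have e1 : BC.down b (a ≫ (Over.pullback b).map z) = BC.down b a ≫ z := BC.down_map a z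
    rw [BC.down_mul, BC.down_mul, e1]
    exact hc _ _ _
  let v : Red.bc b Z ⟶ Red.bc b H := w ≫ c'
  have hv : v ≫ (Over.pullback b).map f = (Over.pullback b).map z' := by
    rw [← cancel_mono ((Over.pullback b).map n), Category.assoc, ← Functor.map_comp, ← Functor.map_comp, hf, hz',
      ← hw]
    simp only [v, Category.assoc]
    rfl
  obtain ⟨x', hx'⟩ : ∃ x' : ↥(pullback Z.hom b), pullback.fst Z.hom b x' = x := by
    have : x ∈ Set.range (pullback.fst Z.hom b).base := by
      rw [Scheme.Pullback.range_fst]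
      exact ⟨IsLocalRing.closedPoint _, S.fromSpecResidueField_apply s _⟩
    exact this
  refine ⟨pullback.fst H.hom b (v.left x'), ?_⟩
  have e := congrArg (fun φ => φ.left ≫ pullback.fst N.hom b) hv
  simp only [Over.comp_left, Category.assoc] at e
  rw [← (Charts.isPullback_map b f).w, ← (Charts.isPullback_map b z').w] at e
  rw [← hx']
  have e2 := congrArg (fun φ => φ x') e
  simp only [Scheme.Hom.comp_apply] at e2 ⊢
  exact e2

end Groth.Agent.H13.NormCartan
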